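import Groth.Agent.CrossLib.Main

/-!
# Exterior products on the products with a fixed proper scheme, and the Künneth hypothesis
-/

set_option autoImplicit false
set_option backward.isDefEq.respectTransparency false
set_option linter.style.haveILetI false
set_option linter.unusedSectionVars false

universe u

open CategoryTheory CategoryTheory.Limits AlgebraicGeometry TopologicalSpace

noncomputable section

namespace Groth.Agent.KronLib

open CycLib BivarLib CrossLib

variable {k : Type u} [Field k]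

/-- A scheme locally of finite type over `k` with its dimension function. -/
structure Tst (k : Type u) [Field k] : Type (u + 1) where
  Y : Scheme.{u}
  p : Y ⟶ Spec (CommRingCat.of k)
  [lft : LocallyOfFiniteType p]
  δ : Y → ℤ
  compat : Cyc.DeltaCompat p δ (fun _ => 0)

attribute [instance] Tst.lft

theorem Tst.setup (T : Tst k) : Cyc.IsSetup T.Y T.δ := isSetup_of_lft T.p (isSetup_spec_field k) T.compat

instance (T : Tst k) : IsLocallyNoetherian T.Y := T.setup.1

variable {X : Scheme.{u}} (pX : X ⟶ Spec (CommRingCat.of k)) [IsProper pX] (δX : X → ℤ)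
  (hδX : Cyc.DeltaCompat pX δX (fun _ => 0))

/-- The product with a test scheme. -/
abbrev PP (T : Tst k) : Scheme.{u} := pullback pX T.p

/-- The projection to the fixed factor. -/
abbrev q₁ (T : Tst k) : PP pX T ⟶ X := pullback.fst _ _

/-- The projection to the test scheme. -/
abbrev q₂ (T : Tst k) : PP pX T ⟶ T.Y := pullback.snd _ _

theorem sqP (T : Tst k) : IsPullback (q₁ pX T) (q₂ pX T) pX T.p := IsPullback.of_hasPullback _ _

instance (T : Tst k) : IsProper (q₂ pX T) := MorphismProperty.pullback_snd _ _ inferInstance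

instance (T : Tst k) : LocallyOfFiniteType (q₁ pX T) :=
  MorphismProperty.pullback_fst _ _ (inferInstance : LocallyOfFiniteType T.p)

/-- The dimension function on the product. -/
def dP (T : Tst k) : PP pX T → ℤ := (exists_delta (q₁ pX T) δX).choose

theorem compat_q₁ (T : Tst k) : Cyc.DeltaCompat (q₁ pX T) (dP pX δX T) δX :=
  (exists_delta (q₁ pX T) δX).choose_spec

include hδX in
theorem compat_q₂ (T : Tst k) : Cyc.DeltaCompat (q₂ pX T) (dP pX δX T) T.δ :=
  deltaCompat_q₂ pX T.p _ _ (sqP pX T) δX T.δ _ hδX T.compat (compat_q₁ pX δX T)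

include hδX in
theorem setup_X : Cyc.IsSetup X δX := isSetup_of_lft pX (isSetup_spec_field k) hδX

include hδX in
theorem setup_P (T : Tst k) : Cyc.IsSetup (PP pX T) (dP pX δX T) :=
  isSetup_of_lft (q₁ pX T) (setup_X pX δX hδX) (compat_q₁ pX δX T)

open Classical in
/-- The coefficients of an exterior product. -/
def IsCross (T : Tst k) (u : AlgebraicCycle X ℤ) (v : AlgebraicCycle T.Y ℤ) (ζ : AlgebraicCycle (PP pX T) ℤ) : Prop :=
  ∀ t : PP pX T, ζ t = if dP pX δX T t = δX (q₁ pX T t) + T.δ (q₂ pX T t) then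
    u (q₁ pX T t) * v (q₂ pX T t) *
      ((Module.length ((PP pX T).presheaf.stalk t) ((PP pX T).presheaf.stalk t ⧸
        (fibIdeal (q₁ pX T) t ⊔ fibIdeal (q₂ pX T) t))).toNat : ℤ)
    else 0

/-- The data of the exterior products with a fixed effective cycle on `X`. -/
abbrev DX (T : Tst k) (u : AlgebraicCycle X ℤ) (a : ℕ) :=
  Data T.p pX (q₂ pX T) (q₁ pX T) T.δ δX (dP pX δX T) u a

include hδX in
theorem nonempty_DX (T : Tst k) {u : AlgebraicCycle X ℤ} {a : ℕ} (hu : u ∈ Cyc.Zk X δX a) :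
    Nonempty (DX pX δX T u a) :=
  exists_data T.p pX _ _ (sqP pX T).flip T.δ δX _ T.compat hδX (compat_q₂ pX δX hδX T) u hu

variable {pX δX}

instance {T : Tst k} {u : AlgebraicCycle X ℤ} {a : ℕ} (D : DX pX δX T u a) : IsFinite D.h := D.fin
instance {T : Tst k} {u : AlgebraicCycle X ℤ} {a : ℕ} (D : DX pX δX T u a) : Flat D.pr₁ := D.flat
instance {T : Tst k} {u : AlgebraicCycle X ℤ} {a : ℕ} (D : DX pX δX T u a) : LocallyOfFiniteType D.pr₁ := D.lft
instance {T : Tst k} {u : AlgebraicCycle X ℤ} {a : ℕ} (D : DX pX δX T u a) : IsLocallyNoetherian D.P' := D.setup.1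

/-- The flat pullback to the data. -/
def DXpull {T : Tst k} {u : AlgebraicCycle X ℤ} {a : ℕ} (D : DX pX δX T u a) :
    AlgebraicCycle T.Y ℤ →+ AlgebraicCycle D.P' ℤ := pullHom D.shift D.setup.2.2

theorem coe_DXpull {T : Tst k} {u : AlgebraicCycle X ℤ} {a : ℕ} (D : DX pX δX T u a) (v : AlgebraicCycle T.Y ℤ) :
    ⇑(DXpull D v) = Cyc.pullFun D.pr₁ D.δ' T.δ (a : ℤ) ⇑v := rfl

theorem mem_DXpull {T : Tst k} {u : AlgebraicCycle X ℤ} {a : ℕ} (D : DX pX δX T u a) {v : AlgebraicCycle T.Y ℤ}
    {j m : ℤ} (hv : v ∈ Cyc.Zk T.Y T.δ j) (hm : j + a = m) : DXpull D v ∈ Cyc.Zk D.P' D.δ' m :=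
  hm ▸ Bivar.pullFun_mem_Zk D.pr₁ D.δ' T.δ a j hv _ rfl

include hδX in
open Classical in
/-- The exterior product is the image of the flat pullback. -/
theorem isCross_map {T : Tst k} {u : AlgebraicCycle X ℤ} {a : ℕ} (hu : u ∈ Cyc.Zk X δX a) (hpos : ∀ x, 0 ≤ u x)
    (D : DX pX δX T u a) (v : AlgebraicCycle T.Y ℤ) :
    IsCross pX δX T u v (AlgebraicCycle.map D.h D.δ' (dP pX δX T) (DXpull D v)) := by
  intro t
  rw [map_pullCycle_apply T.p pX (q₂ pX T) (q₁ pX T) (sqP pX T).flip T.δ δX (dP pX δX T) T.compat hδX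
    (compat_q₂ pX δX hδX T) u hu hpos D v (DXpull D v) rfl t]
  have hI : ∀ I J : Ideal ((PP pX T).presheaf.stalk t), I = J →
      Module.length ((PP pX T).presheaf.stalk t) ((PP pX T).presheaf.stalk t ⧸ I) =
        Module.length ((PP pX T).presheaf.stalk t) ((PP pX T).presheaf.stalk t ⧸ J) := by
    rintro I _ rfl
    rfl
  simp only [add_comm (T.δ (q₂ pX T t)), mul_comm (v (q₂ pX T t))]
  rw [hI _ _ (sup_comm (fibIdeal (q₂ pX T) t) (fibIdeal (q₁ pX T) t))]

variable (pX δX) in
/-- The Künneth hypothesis for the products with test schemes. -/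
structure Kun where
  κ : ∀ (T : Tst k) (a m : ℤ),
    ChowOps.CH X δX a →ₗ[ℤ] ChowOps.CH T.Y T.δ (m - a) →ₗ[ℤ] ChowOps.CH (PP pX T) (dP pX δX T) m
  κ_cl : ∀ (T : Tst k) (a m : ℤ) (u : AlgebraicCycle X ℤ) (hu : u ∈ Cyc.Zk X δX a)
    (v : AlgebraicCycle T.Y ℤ) (hv : v ∈ Cyc.Zk T.Y T.δ (m - a))
    (ζ : AlgebraicCycle (PP pX T) ℤ) (hζ : ζ ∈ Cyc.Zk (PP pX T) (dP pX δX T) m),
    IsCross pX δX T u v ζ → κ T a m (ChowOps.cl u hu) (ChowOps.cl v hv) = ChowOps.cl ζ hζ
  bij : ∀ (T : Tst k) (m : ℤ), Function.Bijective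
    (DirectSum.toModule ℤ ℤ (ChowOps.CH (PP pX T) (dP pX δX T) m) (fun a : ℤ => TensorProduct.lift (κ T a m)))

variable (K : Kun pX δX)

include hδX in
/-- The exterior product with an effective cycle as a pushed pullback. -/
theorem Kun.κ_eq_push {T : Tst k} {u : AlgebraicCycle X ℤ} {a : ℕ} (hu : u ∈ Cyc.Zk X δX a) (hpos : ∀ x, 0 ≤ u x)
    (D : DX pX δX T u a) {m : ℤ} (v : AlgebraicCycle T.Y ℤ) (hv : v ∈ Cyc.Zk T.Y T.δ (m - a)) :
    K.κ T a m (ChowOps.cl u hu) (ChowOps.cl v hv) =
      pushCH D.h D.setup (setup_P pX δX hδX T) D.compat m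
        (ChowOps.cl (DXpull D v) (mem_DXpull D hv (sub_add_cancel _ _))) :=
  K.κ_cl T a m u hu v hv _ _ (isCross_map hδX hu hpos D v)

include hδX in
/-- Homomorphisms on the Chow groups of a product agree when they agree on exterior products with effective
cycles. -/
theorem Kun.hom_ext {T : Tst k} {m : ℤ} {A : Type u} [AddCommGroup A]
    {f g : ChowOps.CH (PP pX T) (dP pX δX T) m →+ A}
    (h : ∀ (a : ℕ) (u : AlgebraicCycle X ℤ) (hu : u ∈ Cyc.Zk X δX a), (∀ x, 0 ≤ u x) →
      ∀ (v : AlgebraicCycle T.Y ℤ) (hv : v ∈ Cyc.Zk T.Y T.δ (m - a)),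
        f (K.κ T a m (ChowOps.cl u hu) (ChowOps.cl v hv)) = g (K.κ T a m (ChowOps.cl u hu) (ChowOps.cl v hv))) :
    f = g := by
  classical
  refine AddMonoidHom.ext fun x => ?_
  obtain ⟨z, rfl⟩ := (K.bij T m).2 x
  induction z using DirectSum.induction_on with
  | zero => rw [map_zero, map_zero, map_zero]
  | add z w hz hw => rw [map_add, map_add, map_add, hz, hw]
  | of a z =>
    rw [← DirectSum.lof_eq_of ℤ, DirectSum.toModule_lof]
    induction z using TensorProduct.induction_on with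
    | zero => rw [map_zero, map_zero, map_zero]
    | add z w hz hw => rw [map_add, map_add, map_add, hz, hw]
    | tmul x y =>
      rw [TensorProduct.lift.tmul]
      obtain ⟨u, hu, rfl⟩ := Bivar.exists_rep x
      obtain ⟨v, hv, rfl⟩ := Bivar.exists_rep y
      rcases lt_or_ge a 0 with ha | ha
      · have h0 : u = 0 := Function.locallyFinsuppWithin.ext fun x => by
          by_contra hx
          obtain ⟨n, -, hn⟩ := hδX x
          exact hx (hu x (by simp at hn; omega))
        subst h0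
        rw [show ChowOps.cl (0 : AlgebraicCycle X ℤ) hu = 0 from rfl, map_zero, LinearMap.zero_apply, map_zero,
          map_zero]
      · obtain ⟨n, rfl⟩ : ∃ n : ℕ, a = n := ⟨a.toNat, (Int.toNat_of_nonneg ha).symm⟩
        have hp : posCycle u ∈ Cyc.Zk X δX n := fun y hy => by rw [posCycle_apply, hu y hy, max_self]
        have hn : posCycle (-u) ∈ Cyc.Zk X δX n := fun y hy => by
          show max (-(u y)) 0 = 0
          rw [hu y hy, neg_zero, max_self]
        have hd : u = posCycle u - posCycle (-u) := Function.locallyFinsuppWithin.ext fun y => by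
          show u y = max (u y) 0 - max (-(u y)) 0
          omega
        rw [Bivar.cl_congr hd hu ((ChowOps.zk _ _ _).sub_mem hp hn), cl_sub hp hn, map_sub, LinearMap.sub_apply,
          map_sub, map_sub, h n _ hp (fun y => le_max_right _ _) v hv, h n _ hn (fun y => le_max_right _ _) v hv]

end Groth.Agent.KronLib
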