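import Groth.Agent.KronLib.Compat

/-!
# The operational class of a Kronecker functional
-/

set_option autoImplicit false
set_option backward.isDefEq.respectTransparency false
set_option linter.style.haveILetI false
set_option linter.unusedSectionVars false

universe u

open CategoryTheory CategoryTheory.Limits AlgebraicGeometry TopologicalSpace

noncomputable section

namespace Groth.Agent.KronLib

open CycLib BivarLib CrossLib

variable {k : Type u} [Field k] {X : Scheme.{u}} {pX : X ⟶ Spec (CommRingCat.of k)} [IsProper pX] {δX : X → ℤ}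

/-- The test scheme over `k` of a test scheme over `X`. -/
abbrev tst (hδX : Cyc.DeltaCompat pX δX (fun _ => 0)) (s : Bivar.OSq X δX) : Tst k :=
  @Tst.mk k _ s.Y (s.g ≫ pX) (haveI := s.lft; inferInstance) s.δ
    (Bivar.deltaCompat_comp s.g pX _ _ _ s.compat hδX)

variable (hδX : Cyc.DeltaCompat pX δX (fun _ => 0))

/-- The graph of a test scheme over `X`. -/
def gr (s : Bivar.OSq X δX) : (tst hδX s).Y ⟶ PP pX (tst hδX s) :=
  pullback.lift s.g (𝟙 s.Y) ((Category.id_comp (s.g ≫ pX)).symm)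

theorem gr_q₁ (s : Bivar.OSq X δX) : gr hδX s ≫ q₁ pX (tst hδX s) = s.g := pullback.lift_fst _ _ _

theorem gr_q₂ (s : Bivar.OSq X δX) : gr hδX s ≫ q₂ pX (tst hδX s) = 𝟙 (tst hδX s).Y := pullback.lift_snd _ _ _

instance (s : Bivar.OSq X δX) : IsClosedImmersion (gr hδX s) := by
  haveI : IsClosedImmersion (gr hδX s ≫ q₂ pX (tst hδX s)) := by rw [gr_q₂]; infer_instance
  exact IsClosedImmersion.of_comp (gr hδX s) (q₂ pX (tst hδX s))

theorem compat_gr (s : Bivar.OSq X δX) : Cyc.DeltaCompat (gr hδX s) (tst hδX s).δ (dP pX δX (tst hδX s)) :=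
  deltaCompat_of_comp (gr hδX s) (q₁ pX (tst hδX s)) (by rw [gr_q₁]; exact s.compat) (compat_q₁ pX δX (tst hδX s))

section Map

variable {s t : Bivar.OSq X δX} (h : t.Y ⟶ s.Y) (w : h ≫ s.g = t.g)

include w in
theorem w_tst : (h : (tst hδX t).Y ⟶ (tst hδX s).Y) ≫ (tst hδX s).p = (tst hδX t).p := by
  show h ≫ s.g ≫ pX = t.g ≫ pX
  rw [← Category.assoc, w]

theorem gr_HH : gr hδX t ≫ HH pX (T := tst hδX s) (T' := tst hδX t) h (w_tst hδX h w) = h ≫ gr hδX s := by
  refine (sqP pX (tst hδX s)).hom_ext ?_ ?_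
  · rw [Category.assoc, HH_q₁, gr_q₁, Category.assoc, gr_q₁]
    exact w.symm
  · rw [Category.assoc, HH_q₂, ← Category.assoc, gr_q₂, Category.assoc, gr_q₂]
    exact (Category.id_comp h).trans (Category.comp_id h).symm

theorem sqGr : IsPullback h (gr hδX t) (gr hδX s) (HH pX (T := tst hδX s) (T' := tst hδX t) h (w_tst hδX h w)) := by
  refine (IsPullback.of_right (t := (sqH pX (T := tst hδX s) (T' := tst hδX t) h (w_tst hδX h w)).flip) ?_
    (gr_HH hδX h w)).flip
  rw [gr_q₂, gr_q₂]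
  exact IsPullback.of_horiz_isIso ⟨by simp⟩

end Map

variable (K : Kun pX δX) {p : ℤ} (φ : ChowOps.CH X δX p →+ ℤ)

/-- The bilinear form defining the class. -/
def bil (T : Tst k) (a m : ℤ) : ChowOps.CH X δX a →ₗ[ℤ] ChowOps.CH T.Y T.δ (m - a) →ₗ[ℤ] ChowOps.CH T.Y T.δ (m - p) :=
  if h : a = p then
    (φ.toIntLinearMap.comp (Bivar.chCast X δX h).toAddMonoidHom.toIntLinearMap).smulRight
      (Bivar.chCast T.Y T.δ (show m - a = m - p by rw [h])).toAddMonoidHom.toIntLinearMap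
  else 0

theorem bil_self (T : Tst k) (m : ℤ) (x : ChowOps.CH X δX p) (y : ChowOps.CH T.Y T.δ (m - p)) :
    bil φ T p m x y = φ x • y := by
  rw [bil, dif_pos rfl]
  rfl

theorem bil_ne (T : Tst k) {a : ℤ} (ha : a ≠ p) (m : ℤ) : bil φ T a m = 0 := dif_neg ha

/-- The homomorphism on the Chow groups of a product given by the functional. -/
def E (T : Tst k) (m : ℤ) : ChowOps.CH (PP pX T) (dP pX δX T) m →+ ChowOps.CH T.Y T.δ (m - p) :=
  ((DirectSum.toModule ℤ ℤ (ChowOps.CH T.Y T.δ (m - p)) fun a : ℤ => TensorProduct.lift (bil φ T a m)).comp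
    (LinearEquiv.ofBijective _ (K.bij T m)).symm.toLinearMap).toAddMonoidHom

theorem E_κ (T : Tst k) (m a : ℤ) (x : ChowOps.CH X δX a) (y : ChowOps.CH T.Y T.δ (m - a)) :
    E K φ T m (K.κ T a m x y) = bil φ T a m x y := by
  classical
  have e : K.κ T a m x y = LinearEquiv.ofBijective _ (K.bij T m)
      (DirectSum.lof ℤ ℤ (fun a : ℤ => TensorProduct ℤ (ChowOps.CH X δX a) (ChowOps.CH T.Y T.δ (m - a))) a (x ⊗ₜ y)) := by
    rw [LinearEquiv.ofBijective_apply, DirectSum.toModule_lof, TensorProduct.lift.tmul]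
  show (DirectSum.toModule ℤ ℤ (ChowOps.CH T.Y T.δ (m - p)) fun a : ℤ => TensorProduct.lift (bil φ T a m))
    ((LinearEquiv.ofBijective _ (K.bij T m)).symm (K.κ T a m x y)) = _
  rw [e, LinearEquiv.symm_apply_apply, DirectSum.toModule_lof, TensorProduct.lift.tmul]

section Natural

variable {T T' : Tst k} (h : T'.Y ⟶ T.Y) (w : h ≫ T.p = T'.p)

include hδX in
theorem E_push [IsProper h] (m : ℤ) (z : ChowOps.CH (PP pX T') (dP pX δX T') m) :
    E K φ T m (pushCH (HH pX h w) (setup_P pX δX hδX T') (setup_P pX δX hδX T) (compat_HH pX δX h w) m z) =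
      pushCH h T'.setup T.setup (compat_h h w) (m - p) (E K φ T' m z) := by
  refine DFunLike.congr_fun (K.hom_ext hδX (T := T') (m := m)
    (f := (E K φ T m).comp (pushCH (HH pX h w) (setup_P pX δX hδX T') (setup_P pX δX hδX T) (compat_HH pX δX h w) m))
    (g := (pushCH h T'.setup T.setup (compat_h h w) (m - p)).comp (E K φ T' m)) fun a u hu hpos v hv => ?_) z
  rw [AddMonoidHom.comp_apply, AddMonoidHom.comp_apply, K.κ_push hδX h w hu hpos, E_κ, E_κ]
  by_cases ha : (a : ℤ) = p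
  · subst ha
    rw [bil_self, bil_self, map_zsmul]
  · rw [bil_ne φ T ha, bil_ne φ T' ha]
    simp

include hδX in
theorem E_pull [Flat h] (r : ℕ) (hr : Cyc.HasRelDim h r) (hs : IsShift h T'.δ T.δ r) {m m' : ℤ} (e : m + r = m')
    (e' : m - p + r = m' - p) (z : ChowOps.CH (PP pX T) (dP pX δX T) m) :
    E K φ T' m' (pullCH (HH pX h w) (shift_HH pX δX hδX h w r hr) (setup_P pX δX hδX T') (setup_P pX δX hδX T) e z) =
      pullCH h hs T'.setup T.setup e' (E K φ T m z) := by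
  refine DFunLike.congr_fun (K.hom_ext hδX (T := T) (m := m)
    (f := (E K φ T' m').comp
      (pullCH (HH pX h w) (shift_HH pX δX hδX h w r hr) (setup_P pX δX hδX T') (setup_P pX δX hδX T) e))
    (g := (pullCH h hs T'.setup T.setup e').comp (E K φ T m)) fun a u hu hpos v hv => ?_) z
  rw [AddMonoidHom.comp_apply, AddMonoidHom.comp_apply,
    K.κ_pull hδX h w hu hpos r hr e (show m - (a : ℤ) + r = m' - a by omega) hs, E_κ, E_κ]
  by_cases ha : (a : ℤ) = p
  · subst ha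
    rw [bil_self, bil_self, map_zsmul]
  · rw [bil_ne φ T ha, bil_ne φ T' ha]
    simp

include hδX in
theorem E_gys [IsClosedImmersion h] {L : T.Y.Modules} (hL : PicF.IsInvertible L)
    {σ : L.presheaf.obj (Opposite.op ⊤)} (hσ : Cyc.IsZeroSchemeOf h L σ) {m : ℤ} (e : m - p - 1 = m - 1 - p)
    (z : ChowOps.CH (PP pX T) (dP pX δX T) m) :
    E K φ T' (m - 1) ((gys h w hL hσ).op (sqPr pX δX hδX h w) m z) =
      Bivar.chCast T'.Y T'.δ e ((gys h w hL hσ).op (sq₀ h) (m - p) (E K φ T m z)) := by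
  refine DFunLike.congr_fun (K.hom_ext hδX (T := T) (m := m)
    (f := (E K φ T' (m - 1)).comp ((gys h w hL hσ).op (sqPr pX δX hδX h w) m))
    (g := ((Bivar.chCast T'.Y T'.δ e).toAddMonoidHom.comp ((gys h w hL hσ).op (sq₀ h) (m - p))).comp (E K φ T m))
    fun a u hu hpos v hv => ?_) z
  rw [AddMonoidHom.comp_apply, AddMonoidHom.comp_apply, AddMonoidHom.comp_apply,
    K.κ_gysin hδX h w hu hpos hL hσ (show m - (a : ℤ) - 1 = m - 1 - a by omega)]
  erw [E_κ, E_κ]
  by_cases ha : (a : ℤ) = p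
  · subst ha
    rw [bil_self, bil_self, map_zsmul]
    exact (map_zsmul (Bivar.chCast T'.Y T'.δ e).toAddMonoidHom _ _).symm
  · rw [bil_ne φ T ha, bil_ne φ T' ha]
    simp

end Natural

/-- The operation of the class. -/
def clOp (s : Bivar.OSq X δX) (m : ℤ) : ChowOps.CH s.Y s.δ m →+ ChowOps.CH s.Y s.δ (m - p) :=
  (E K φ (tst hδX s) m).comp
    (pushCH (gr hδX s) (tst hδX s).setup (setup_P pX δX hδX (tst hδX s)) (compat_gr hδX s) m)

/-- The operational class of a functional on classes. -/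
def classOf : Bivar.OpCl p X δX where
  op := clOp hδX K φ
  push s t h hh w m := by
    intro α hα
    obtain ⟨β, hβ, eβ⟩ := Bivar.exists_rep (clOp hδX K φ t m (ChowOps.cl α hα))
    refine ⟨β, hβ, eβ.symm, ?_⟩
    let T := tst hδX s
    let T' := tst hδX t
    let h' : T'.Y ⟶ T.Y := h
    haveI : IsProper h' := hh
    have w' : h' ≫ T.p = T'.p := w_tst hδX h w
    have key : clOp hδX K φ s m (pushCH h' T'.setup T.setup (compat_h h' w') m (ChowOps.cl α hα)) =
        pushCH h' T'.setup T.setup (compat_h h' w') (m - p) (clOp hδX K φ t m (ChowOps.cl α hα)) := by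
      show E K φ T m (pushCH (gr hδX s) _ _ _ m _) = pushCH h' _ _ _ (m - p) (E K φ T' m _)
      rw [← E_push hδX K φ h' w' m,
        ← pushCH_comm (gr hδX t) (HH pX h' w') h' (gr hδX s) (gr_HH hδX h w) T'.setup (setup_P pX δX hδX T')
          (setup_P pX δX hδX T) T.setup (compat_gr hδX t) (compat_HH pX δX h' w') (compat_h h' w') (compat_gr hδX s)]
    rw [← eβ] at key
    exact key
  pull s t h hf r hr w m := by
    intro α hα
    obtain ⟨β, hβ, eβ⟩ := Bivar.exists_rep (clOp hδX K φ s m (ChowOps.cl α hα))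
    refine ⟨β, hβ, eβ.symm, fun α₁ hc hα₁ => ?_⟩
    let T := tst hδX s
    let T' := tst hδX t
    let h' : T'.Y ⟶ T.Y := h
    haveI : Flat h' := hf
    have w' : h' ≫ T.p = T'.p := w_tst hδX h w
    haveI := lft_h h' w'
    haveI : IsLocallyNoetherian T.Y := T.setup.1
    haveI : IsLocallyNoetherian T'.Y := T'.setup.1
    have hs : IsShift h' T'.δ T.δ (r : ℤ) := IsShift.of_relDim T'.setup T.setup r hr (compat_h h' w')
    haveI : Flat (HH pX h' w') := inferInstance
    have e' : m - p + (r : ℤ) = m + r - p := by ring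
    let β₁ : AlgebraicCycle T'.Y ℤ := pullHom hs T'.setup.2.2 β
    have hβ₁ : β₁ ∈ Cyc.Zk T'.Y T'.δ (m + r - p) :=
      e' ▸ Bivar.pullFun_mem_Zk h' T'.δ T.δ r (m - p) hβ _ rfl
    refine ⟨β₁, hβ₁, rfl, ?_⟩
    have key : clOp hδX K φ t (m + r) (pullCH h' hs T'.setup T.setup rfl (ChowOps.cl α hα)) =
        pullCH h' hs T'.setup T.setup e' (clOp hδX K φ s m (ChowOps.cl α hα)) := by
      show E K φ T' (m + r) (pushCH (gr hδX t) _ _ _ (m + r) _) = pullCH h' _ _ _ e' (E K φ T m _)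
      rw [← E_pull hδX K φ h' w' r hr hs rfl e',
        pullCH_pushCH (sqGr hδX h w) T.setup (setup_P pX δX hδX T') (setup_P pX δX hδX T) T'.setup (compat_gr hδX s)
          (compat_gr hδX t) (shift_HH pX δX hδX h' w' r hr) hs rfl]
    rw [← eβ, pullCH_cl h' hs T'.setup T.setup rfl α hα α₁ hc hα₁,
      pullCH_cl h' hs T'.setup T.setup e' β hβ β₁ rfl hβ₁] at key
    exact key
  gysin s t i hi w L hL σ hσ m := by
    intro α hα
    obtain ⟨β, hβ, eβ⟩ := Bivar.exists_rep (clOp hδX K φ s m (ChowOps.cl α hα))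
    refine ⟨β, hβ, eβ.symm, fun wt hwt γ hγe hγ => ?_⟩
    let T := tst hδX s
    let T' := tst hδX t
    let i' : T'.Y ⟶ T.Y := i
    haveI : IsClosedImmersion i' := hi
    have w' : i' ≫ T.p = T'.p := w_tst hδX i w
    have hd := compat_h i' w'
    haveI := T.setup.1
    let ζ : AlgebraicCycle T'.Y ℤ := restrictCycle i' (c1Cycle T.setup.2.2 hL β (Cyc.gysinChoice L σ wt))
    have hζ₀ : ζ ∈ Cyc.Zk T'.Y T'.δ (m - p - 1) := mem_Zk_gysin i' hd hβ fun _ => rfl
    have e : m - p - 1 = m - 1 - p := by ring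
    refine ⟨ζ, e ▸ hζ₀, fun _ => rfl, ?_⟩
    have key : clOp hδX K φ t (m - 1) ((gys i' w' hL hσ).op (sq₀ i') m (ChowOps.cl α hα)) =
        Bivar.chCast T'.Y T'.δ e ((gys i' w' hL hσ).op (sq₀ i') (m - p) (clOp hδX K φ s m (ChowOps.cl α hα))) := by
      show E K φ T' (m - 1) (pushCH (gr hδX t) _ _ _ (m - 1) _) = _
      refine Eq.trans ?_ (E_gys hδX K φ i' w' hL hσ e _)
      congr 1
      exact (op_pushCH T'.setup T.setup (gys i' w' hL hσ) (sqPr pX δX hδX i' w') (sq₀ i') (gr hδX s) (gr hδX t)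
        (gr_q₂ hδX s) (gr_HH hδX i w) (gr_q₂ hδX t) (compat_gr hδX s) (compat_gr hδX t) m _).symm
    have g₁ : (gys i' w' hL hσ).op (sq₀ i') m (ChowOps.cl α hα) = ChowOps.cl γ hγ :=
      (gysinOp_self T.setup T'.setup hd hL hσ hwt m _).trans (gysinCH_cl _ _ _ _ _ _ _ α hα γ hγe hγ)
    have g₂ : (gys i' w' hL hσ).op (sq₀ i') (m - p) (ChowOps.cl β hβ) = ChowOps.cl ζ hζ₀ :=
      (gysinOp_self T.setup T'.setup hd hL hσ hwt (m - p) _).trans
        (gysinCH_cl _ _ _ _ _ _ _ β hβ ζ (fun _ => rfl) hζ₀)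
    rw [g₁, ← eβ] at key
    erw [g₂, Bivar.chCast_cl] at key
    exact key

/-- A class of dimension zero on the spectrum of a field is determined by its cycle. -/
theorem eq_of_cl_eq_spec {α β : AlgebraicCycle (Spec (CommRingCat.of k)) ℤ} {l : ℤ} (hl : l = 0)
    (hα : α ∈ Cyc.Zk (Spec (CommRingCat.of k)) (fun _ => 0) l) (hβ : β ∈ Cyc.Zk (Spec (CommRingCat.of k)) (fun _ => 0) l)
    (h : ChowOps.cl α hα = ChowOps.cl β hβ) : α = β := by
  subst hl
  haveI := (isSetup_spec_field k).1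
  obtain ⟨ι, ξ, f, h1, -, -, h4⟩ := ratEquiv_of_cl_eq (isSetup_spec_field k).2.2 h
  haveI : IsEmpty ι := ⟨fun i => by simpa using h1 i⟩
  refine sub_eq_zero.1 (Function.locallyFinsuppWithin.ext fun x => ?_)
  rw [h4 x, finsum_of_isEmpty]
  rfl

include hδX in
/-- The Kronecker functional of the class is the functional it comes from. -/
theorem deg_classOf (α : AlgebraicCycle X ℤ) (hα : α ∈ Cyc.Zk X δX p) (β : AlgebraicCycle X ℤ)
    (hβ : β ∈ Cyc.Zk X δX (p - p)) (e : (classOf hδX K φ).cap p (ChowOps.cl α hα) = ChowOps.cl β hβ) :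
    φ (ChowOps.cl α hα) = ChowOps.deg pX δX β := by
  let S := Spec (CommRingCat.of k)
  let T₀ : Tst k := ⟨S, 𝟙 S, fun _ => 0, Bivar.deltaCompat_id _⟩
  let sX := Bivar.OSq.self X δX
  let T := tst hδX sX
  let h : T.Y ⟶ T₀.Y := pX
  haveI : IsProper h := ‹IsProper pX›
  have w : h ≫ T₀.p = T.p := (Category.comp_id pX).trans (Category.id_comp pX).symm
  haveI : IsIso (q₁ pX T₀) := inferInstanceAs (IsIso (pullback.fst pX (𝟙 S)))
  let j : T.Y ⟶ PP pX T₀ := gr hδX sX ≫ HH pX h w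
  have hj : j ≫ q₁ pX T₀ = 𝟙 X := by
    show (gr hδX sX ≫ HH pX h w) ≫ q₁ pX T₀ = _
    rw [Category.assoc, HH_q₁, gr_q₁]
  have hji : IsIso j := by
    have h' : j = inv (q₁ pX T₀) := by
      rw [← cancel_mono (q₁ pX T₀), hj, IsIso.inv_hom_id]
    rw [h']
    infer_instance
  haveI := hji
  haveI : IsClosedImmersion j := inferInstance
  have hjd : Cyc.DeltaCompat j δX (dP pX δX T₀) :=
    deltaCompat_of_comp j (q₁ pX T₀) (by rw [hj]; exact Bivar.deltaCompat_id δX) (compat_q₁ pX δX T₀)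
  -- the point of the base
  let pt : AlgebraicCycle T₀.Y ℤ := pointCycle (IsLocalRing.closedPoint k) 1
  have hpt : pt ∈ Cyc.Zk T₀.Y T₀.δ (p - p) := mem_Zk_point _ _ fun _ => (sub_self p).symm
  have hζ : AlgebraicCycle.map j δX (dP pX δX T₀) α ∈ Cyc.Zk (PP pX T₀) (dP pX δX T₀) p :=
    Bivar.cycMap_mem_Zk j δX _ p hα
  have hcross : IsCross pX δX T₀ α pt (AlgebraicCycle.map j δX (dP pX δX T₀) α) := by
    intro t
    have ht : j (q₁ pX T₀ t) = t := by
      have : q₁ pX T₀ ≫ j = 𝟙 _ := by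
        rw [← cancel_mono (q₁ pX T₀), Category.assoc, hj, Category.comp_id, Category.id_comp]
      rw [← Scheme.Hom.comp_apply, this]
      rfl
    have hδt : dP pX δX T₀ t = δX (q₁ pX T₀ t) + T₀.δ (q₂ pX T₀ t) := by
      rw [congrFun (delta_unique hjd (CycLib.deltaCompat_preimmersion j (dP pX δX T₀))) (q₁ pX T₀ t), ht]
      exact (add_zero _).symm
    have hmax : fibIdeal (q₁ pX T₀) t ⊔ fibIdeal (q₂ pX T₀) t = IsLocalRing.maximalIdeal _ := by
      refine le_antisymm (sup_le (fibIdeal_le _ _) (fibIdeal_le _ _)) (le_trans (le_of_eq ?_) le_sup_left)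
      exact (map_maximalIdeal_of_surjective ((q₁ pX T₀).stalkMap t).hom
        (ConcreteCategory.bijective_of_isIso ((q₁ pX T₀).stalkMap t)).2).symm
    rw [if_pos hδt]
    have hlen : Module.length ((PP pX T₀).presheaf.stalk t) ((PP pX T₀).presheaf.stalk t ⧸
        (fibIdeal (q₁ pX T₀) t ⊔ fibIdeal (q₂ pX T₀) t)) = 1 := by
      have hI : ∀ I : Ideal ((PP pX T₀).presheaf.stalk t), I.IsMaximal →
          Module.length ((PP pX T₀).presheaf.stalk t) ((PP pX T₀).presheaf.stalk t ⧸ I) = 1 := fun I hI =>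
        Module.length_eq_one_iff.2 (isSimpleModule_iff_isCoatom.2 hI.out)
      exact hI _ (hmax ▸ IsLocalRing.maximalIdeal.isMaximal _)
    have hv : pt (q₂ pX T₀ t) = 1 := by
      rw [show q₂ pX T₀ t = IsLocalRing.closedPoint k from Subsingleton.elim _ _]
      exact pointCycle_self _ _
    rw [hlen, hv]
    have hm : ∀ (δ' : X → ℤ), δ' = (fun z => dP pX δX T₀ (j z)) → ∀ z,
        AlgebraicCycle.map j δ' (dP pX δX T₀) α (j z) = α z := by
      rintro _ rfl z
      exact map_closed_apply j α z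
    conv_lhs => rw [← ht]
    rw [hm δX (delta_unique hjd (CycLib.deltaCompat_preimmersion j (dP pX δX T₀)))]
    simp
  have e₁ : E K φ T₀ p (pushCH (HH pX h w) (setup_P pX δX hδX T) (setup_P pX δX hδX T₀) (compat_HH pX δX h w) p
      (pushCH (gr hδX sX) T.setup (setup_P pX δX hδX T) (compat_gr hδX sX) p (ChowOps.cl α hα))) =
      φ (ChowOps.cl α hα) • ChowOps.cl pt hpt := by
    rw [pushCH_cl, pushCH_cl, ← bil_self, ← E_κ K φ T₀ p p]
    congr 1
    rw [K.κ_cl T₀ p p α hα pt hpt _ hζ hcross]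
    exact Bivar.cl_congr (S1859.result _ _ _ T.δ (dP pX δX T) (dP pX δX T₀) T.setup (setup_P pX δX hδX T)
      (setup_P pX δX hδX T₀) (gr hδX sX) (HH pX h w) (compat_gr hδX sX) (compat_HH pX δX h w) p α hα) _ _
  rw [E_push hδX K φ h w] at e₁
  have e₂ : pushCH h T.setup T₀.setup (compat_h h w) (p - p) (ChowOps.cl β hβ) = φ (ChowOps.cl α hα) • ChowOps.cl pt hpt := by
    rw [← e]
    exact e₁
  rw [pushCH_cl] at e₂
  have hsm : φ (ChowOps.cl α hα) • pt ∈ Cyc.Zk T₀.Y T₀.δ (p - p) := (ChowOps.zk _ _ _).zsmul_mem hpt _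
  have e₃ := eq_of_cl_eq_spec (sub_self p) _ hsm
    (e₂.trans (map_zsmul (ChowOps.clHom T₀.Y T₀.δ (p - p)) (φ (ChowOps.cl α hα)) ⟨pt, hpt⟩).symm)
  have e₄ := DFunLike.congr_fun e₃ (IsLocalRing.closedPoint k)
  show _ = AlgebraicCycle.map pX δX (fun _ => (0 : ℤ)) β (IsLocalRing.closedPoint k)
  refine Eq.trans ?_ e₄.symm
  show _ = φ (ChowOps.cl α hα) • pt (IsLocalRing.closedPoint k)
  rw [pointCycle_self]
  simp

include hδX in
/-- The class with given Kronecker functional is unique. -/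
theorem op_eq_classOf (c : Bivar.OpCl p X δX)
    (hc : ∀ (α : AlgebraicCycle X ℤ) (hα : α ∈ Cyc.Zk X δX p) (β : AlgebraicCycle X ℤ)
      (hβ : β ∈ Cyc.Zk X δX (p - p)), c.cap p (ChowOps.cl α hα) = ChowOps.cl β hβ →
      φ (ChowOps.cl α hα) = ChowOps.deg pX δX β) : c = classOf hδX K φ := by
  refine Bivar.OpCl.ext (funext fun s => funext fun m => AddMonoidHom.ext fun x => ?_)
  let T := tst hδX s
  haveI : LocallyOfFiniteType T.p := T.lft
  let sP : Bivar.OSq X δX := ⟨PP pX T, q₁ pX T, inferInstance, dP pX δX T, compat_q₁ pX δX T⟩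
  have key : (pushCH (q₂ pX T) (setup_P pX δX hδX T) T.setup (compat_q₂ pX δX hδX T) (m - p)).comp (c.op sP m) =
      E K φ T m := by
    refine K.hom_ext hδX fun a u hu hpos v hv => ?_
    rw [AddMonoidHom.comp_apply]
    obtain ⟨D⟩ := nonempty_DX pX δX hδX T hu
    have hζ : AlgebraicCycle.map D.h D.δ' (dP pX δX T) (DXpull D v) ∈ Cyc.Zk (PP pX T) (dP pX δX T) m :=
      Bivar.cycMap_mem_Zk _ _ _ _ (mem_DXpull D hv (sub_add_cancel _ _))
    obtain ⟨β, hβ, eβ⟩ := Bivar.exists_rep (c.cap a (ChowOps.cl u hu))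
    obtain ⟨H, hH⟩ := op_cross pX T.p (q₁ pX T) (q₂ pX T) (sqP pX T) δX T.δ (dP pX δX T) hδX T.compat
      (compat_q₁ pX δX T) (setup_X pX δX hδX) T.setup (setup_P pX δX hδX T) (compat_q₂ pX δX hδX T) c u hu β hβ
      eβ.symm v hv _ hζ (isCross_map hδX hu hpos D v)
    rw [E_κ, K.κ_cl T a m u hu v hv _ hζ (isCross_map hδX hu hpos D v)]
    refine hH.trans ?_
    by_cases ha : (a : ℤ) = p
    · subst ha
      rw [bil_self, hc u hu β hβ eβ.symm]
      exact map_zsmul (ChowOps.clHom T.Y T.δ (m - a)) (ChowOps.deg pX δX β) ⟨v, hv⟩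
    · rw [bil_ne φ T ha, LinearMap.zero_apply, LinearMap.zero_apply]
      refine (Bivar.cl_congr (β := 0) ?_ H (ChowOps.zk _ _ _).zero_mem).trans rfl
      rw [deg_eq_zero pX hβ (fun h => ha (by omega)), zero_smul]
  obtain ⟨α, hα, rfl⟩ := Bivar.exists_rep x
  let γ : T.Y ⟶ PP pX T := gr hδX s
  obtain ⟨z, hz, e₁, e₂⟩ := c.push sP s γ (gr_q₁ hδX s) m α hα
  have hret : AlgebraicCycle.map (q₂ pX T) (dP pX δX T) T.δ (AlgebraicCycle.map γ T.δ (dP pX δX T) z) = z := by
    rw [S1859.result T.Y (PP pX T) T.Y T.δ (dP pX δX T) T.δ T.setup (setup_P pX δX hδX T) T.setup γ (q₂ pX T)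
      (compat_gr hδX s) (compat_q₂ pX δX hδX T) (m - p) z hz]
    have hcongr : ∀ (g : T.Y ⟶ T.Y) [QuasiCompact g], g = 𝟙 T.Y → AlgebraicCycle.map g T.δ T.δ z = z := by
      intro g _ hg
      subst hg
      exact AlgebraicCycle.map_id T.δ z
    exact hcongr _ (gr_q₂ hδX s)
  show c.op s m (ChowOps.cl α hα) = E K φ T m (pushCH γ T.setup (setup_P pX δX hδX T) (compat_gr hδX s) m (ChowOps.cl α hα))
  rw [pushCH_cl, ← key, AddMonoidHom.comp_apply, e₁]
  erw [e₂, pushCH_cl]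
  exact (Bivar.cl_congr hret _ _).symm

end Groth.Agent.KronLib
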