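import Groth.Agent.KronLib.Basic
import Groth.Agent.BivarLib.GysinClass
import Groth.Agent.BivarLib.ProperPush

/-!
# Exterior products commute with push forward, flat pullback and Gysin maps
-/

set_option autoImplicit false
set_option backward.isDefEq.respectTransparency false
set_option linter.style.haveILetI false
set_option linter.unusedSectionVars false

universe u

open CategoryTheory CategoryTheory.Limits AlgebraicGeometry TopologicalSpace

noncomputable section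

namespace Groth.Agent.KronLib

open CycLib BivarLib CrossLib

section Classes

variable {A B C C' : Scheme.{u}} {δA : A → ℤ} {δB : B → ℤ} {δC : C → ℤ} {δC' : C' → ℤ}

/-- Push forwards along the two ways around a commutative square. -/
theorem pushCH_comm (f : A ⟶ B) (g : B ⟶ C) (f' : A ⟶ C') (g' : C' ⟶ C) [IsProper f] [IsProper g] [IsProper f']
    [IsProper g'] (w : f ≫ g = f' ≫ g') (hA : Cyc.IsSetup A δA) (hB : Cyc.IsSetup B δB) (hC : Cyc.IsSetup C δC)
    (hC' : Cyc.IsSetup C' δC') (hf : Cyc.DeltaCompat f δA δB) (hg : Cyc.DeltaCompat g δB δC)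
    (hf' : Cyc.DeltaCompat f' δA δC') (hg' : Cyc.DeltaCompat g' δC' δC) {m : ℤ} (x : ChowOps.CH A δA m) :
    pushCH g hB hC hg m (pushCH f hA hB hf m x) = pushCH g' hC' hC hg' m (pushCH f' hA hC' hf' m x) := by
  obtain ⟨α, hα, rfl⟩ := Bivar.exists_rep x
  rw [pushCH_cl, pushCH_cl, pushCH_cl, pushCH_cl]
  refine Bivar.cl_congr ?_ _ _
  have hcongr : ∀ (a b : A ⟶ C) [QuasiCompact a] [QuasiCompact b], a = b →
      AlgebraicCycle.map a δA δC α = AlgebraicCycle.map b δA δC α := by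
    intro a b _ _ hab
    subst hab
    rfl
  rw [S1859.result A B C δA δB δC hA hB hC f g hf hg m α hα,
    S1859.result A C' C δA δC' δC hA hC' hC f' g' hf' hg' m α hα]
  exact hcongr _ _ w

/-- Flat pullback on classes, to a given degree. -/
def pullCH (q : A ⟶ B) [Flat q] {r : ℤ} (hs : IsShift q δA δB r) (hA : Cyc.IsSetup A δA) (hB : Cyc.IsSetup B δB)
    {j l : ℤ} (e : j + r = l) : ChowOps.CH B δB j →+ ChowOps.CH A δA l :=
  haveI := hA.1
  haveI := hB.1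
  descend
    { toFun := fun a => ChowOps.cl (pullHom hs hA.2.2 a.1)
        (e ▸ Bivar.pullFun_mem_Zk q δA δB r j a.2 _ rfl)
      map_zero' := Bivar.cl_congr (map_zero (pullHom hs hA.2.2)) _ (ChowOps.zk A δA l).zero_mem
      map_add' := fun a b => (Bivar.cl_congr ((pullHom hs hA.2.2).map_add a.1 b.1) _ _).trans
        (Bivar.cl_add _ _ _ _) }
    (fun a h => cl_eq_zero _ (by
      subst e
      exact ratEquivZero_pull hs hA.2.2 hB.2.2 h _ rfl))

theorem pullCH_cl (q : A ⟶ B) [Flat q] {r : ℤ} (hs : IsShift q δA δB r) (hA : Cyc.IsSetup A δA)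
    (hB : Cyc.IsSetup B δB) {j l : ℤ} (e : j + r = l) (α : AlgebraicCycle B ℤ) (hα : α ∈ Cyc.Zk B δB j)
    (α₁ : AlgebraicCycle A ℤ) (h : ⇑α₁ = Cyc.pullFun q δA δB r ⇑α) (hα₁ : α₁ ∈ Cyc.Zk A δA l) :
    pullCH q hs hA hB e (ChowOps.cl α hα) = ChowOps.cl α₁ hα₁ :=
  haveI := hA.1
  haveI := hB.1
  Bivar.cl_congr (DFunLike.coe_injective h.symm) _ hα₁

/-- Flat pullback commutes with proper push forward in a cartesian square. -/
theorem pullCH_pushCH {f : A ⟶ C} {g : B ⟶ C} {g' : C' ⟶ A} {f' : C' ⟶ B} (sq : IsPullback g' f' f g)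
    [IsProper f] [IsProper f'] [Flat g] [Flat g'] (hA : Cyc.IsSetup A δA) (hB : Cyc.IsSetup B δB)
    (hC : Cyc.IsSetup C δC) (hC' : Cyc.IsSetup C' δC') (hf : Cyc.DeltaCompat f δA δC)
    (hf' : Cyc.DeltaCompat f' δC' δB) {r : ℤ} (hs : IsShift g δB δC r) (hs' : IsShift g' δC' δA r)
    {j l : ℤ} (e : j + r = l) (x : ChowOps.CH A δA j) :
    pullCH g hs hB hC e (pushCH f hA hC hf j x) = pushCH f' hC' hB hf' l (pullCH g' hs' hC' hA e x) := by
  haveI := hA.1
  haveI := hB.1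
  haveI := hC.1
  haveI := hC'.1
  obtain ⟨α, hα, rfl⟩ := Bivar.exists_rep x
  have hα' : pullHom hs' hC'.2.2 α ∈ Cyc.Zk C' δC' l := e ▸ Bivar.pullFun_mem_Zk g' δC' δA r j hα _ rfl
  rw [pushCH_cl, pullCH_cl g' hs' hC' hA e α hα (pullHom hs' hC'.2.2 α) rfl hα', pushCH_cl]
  exact pullCH_cl g hs hB hC e _ _ _
    (map_pullFun sq hB.2.2 hC'.2.2 hf hf' hs hs' α (pullHom hs' hC'.2.2 α) rfl) _

end Classes

variable {k : Type u} [Field k] {X : Scheme.{u}} (pX : X ⟶ Spec (CommRingCat.of k)) [IsProper pX] (δX : X → ℤ)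
  (hδX : Cyc.DeltaCompat pX δX (fun _ => 0))

section Base

variable {T T' : Tst k} (h : T'.Y ⟶ T.Y) (w : h ≫ T.p = T'.p)

include w in
theorem lft_h : LocallyOfFiniteType h := by
  haveI : LocallyOfFiniteType (h ≫ T.p) := w ▸ T'.lft
  exact locallyOfFiniteType_of_comp h T.p

include w in
theorem compat_h : Cyc.DeltaCompat h T'.δ T.δ := by
  haveI := lft_h h w
  exact deltaCompat_of_comp h T.p (by rw [w]; exact T'.compat) T.compat

/-- The map of products induced by a map of test schemes. -/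
def HH : PP pX T' ⟶ PP pX T :=
  pullback.lift (q₁ pX T') (q₂ pX T' ≫ h) (by rw [Category.assoc, w]; exact pullback.condition)

@[reassoc (attr := simp)]
theorem HH_q₁ : HH pX h w ≫ q₁ pX T = q₁ pX T' := pullback.lift_fst _ _ _

@[reassoc (attr := simp)]
theorem HH_q₂ : HH pX h w ≫ q₂ pX T = q₂ pX T' ≫ h := pullback.lift_snd _ _ _

theorem sqH : IsPullback (HH pX h w) (q₂ pX T') (q₂ pX T) h := by
  refine IsPullback.of_right (t := sqP pX T) ?_ (HH_q₂ pX h w)
  rw [HH_q₁, w]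
  exact sqP pX T'

theorem lft_HH : LocallyOfFiniteType (HH pX h w) :=
  MorphismProperty.of_isPullback (sqH pX h w).flip (lft_h h w)

theorem compat_HH : Cyc.DeltaCompat (HH pX h w) (dP pX δX T') (dP pX δX T) := by
  haveI := lft_HH pX h w
  exact deltaCompat_of_comp (HH pX h w) (q₁ pX T) (by rw [HH_q₁]; exact compat_q₁ pX δX T') (compat_q₁ pX δX T)

instance [IsProper h] : IsProper (HH pX h w) := MorphismProperty.of_isPullback (sqH pX h w).flip inferInstance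

instance [Flat h] : Flat (HH pX h w) := MorphismProperty.of_isPullback (sqH pX h w).flip inferInstance

instance [IsClosedImmersion h] : IsClosedImmersion (HH pX h w) :=
  MorphismProperty.of_isPullback (sqH pX h w).flip inferInstance

include hδX in
theorem shift_HH [Flat h] (r : ℕ) (hr : Cyc.HasRelDim h r) :
    IsShift (HH pX h w) (dP pX δX T') (dP pX δX T) r := by
  haveI := lft_h h w
  exact isShift_square (sqH pX h w) T'.setup T.setup (setup_P pX δX hδX T) (setup_P pX δX hδX T') r hr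
    (compat_h h w) (compat_q₂ pX δX hδX T) (compat_q₂ pX δX hδX T')

variable {pX δX} {u : AlgebraicCycle X ℤ} {a : ℕ} (D : DX pX δX T u a) (D' : DX pX δX T' u a)

/-- The map of data induced by a map of test schemes. -/
def hQ : D'.P' ⟶ D.P' := D.sqX.lift (D'.pr₁ ≫ h) D'.pr₂ (by rw [Category.assoc, w]; exact D'.sqX.w)

theorem hQ_pr₁ : hQ h w D D' ≫ D.pr₁ = D'.pr₁ ≫ h := D.sqX.lift_fst _ _ _

theorem hQ_pr₂ : hQ h w D D' ≫ D.pr₂ = D'.pr₂ := D.sqX.lift_snd _ _ _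

theorem sqQ : IsPullback (hQ h w D D') D'.pr₁ D.pr₁ h := by
  refine IsPullback.of_right (t := D.sqX.flip) ?_ (hQ_pr₁ h w D D')
  rw [hQ_pr₂, w]
  exact D'.sqX.flip

theorem hQ_h : hQ h w D D' ≫ D.h = D'.h ≫ HH pX h w := by
  refine (sqP pX T).hom_ext ?_ ?_
  · rw [Category.assoc, Category.assoc, HH_q₁, D.sq.w, ← Category.assoc, hQ_pr₂, D'.sq.w]
  · rw [Category.assoc, Category.assoc, HH_q₂, D.w, hQ_pr₁, ← Category.assoc, D'.w]

theorem sqD : IsPullback (hQ h w D D') D'.h D.h (HH pX h w) := by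
  refine IsPullback.of_right (t := D.sq.flip) ?_ (hQ_h h w D D')
  rw [hQ_pr₂, HH_q₁]
  exact D'.sq.flip

instance [IsProper h] : IsProper (hQ h w D D') := MorphismProperty.of_isPullback (sqQ h w D D').flip inferInstance

instance [Flat h] : Flat (hQ h w D D') := MorphismProperty.of_isPullback (sqQ h w D D').flip inferInstance

instance [IsClosedImmersion h] : IsClosedImmersion (hQ h w D D') :=
  MorphismProperty.of_isPullback (sqQ h w D D').flip inferInstance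

theorem compat_hQ : Cyc.DeltaCompat (hQ h w D D') D'.δ' D.δ' := by
  haveI : LocallyOfFiniteType (hQ h w D D') := MorphismProperty.of_isPullback (sqQ h w D D').flip (lft_h h w)
  refine deltaCompat_of_comp (hQ h w D D') D.pr₁ ?_ D.compat₁
  rw [hQ_pr₁]
  exact Bivar.deltaCompat_comp D'.pr₁ h _ _ _ D'.compat₁ (compat_h h w)

theorem shift_hQ [Flat h] (r : ℕ) (hr : Cyc.HasRelDim h r) : IsShift (hQ h w D D') D'.δ' D.δ' r := by
  haveI := lft_h h w
  exact isShift_square (sqQ h w D D') T'.setup T.setup D.setup D'.setup r hr (compat_h h w) D.compat₁ D'.compat₁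

end Base

variable {pX δX} (K : Kun pX δX) {T T' : Tst k} (h : T'.Y ⟶ T.Y) (w : h ≫ T.p = T'.p) {a : ℕ}
  {u : AlgebraicCycle X ℤ} (hu : u ∈ Cyc.Zk X δX a) (hpos : ∀ x, 0 ≤ u x)

include hpos in
/-- Exterior products commute with proper push forward. -/
theorem Kun.κ_push [IsProper h] {m : ℤ} (y : ChowOps.CH T'.Y T'.δ (m - a)) :
    pushCH (HH pX h w) (setup_P pX δX hδX T') (setup_P pX δX hδX T) (compat_HH pX δX h w) m
        (K.κ T' a m (ChowOps.cl u hu) y) =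
      K.κ T a m (ChowOps.cl u hu) (pushCH h T'.setup T.setup (compat_h h w) (m - a) y) := by
  obtain ⟨v, hv, rfl⟩ := Bivar.exists_rep y
  obtain ⟨D⟩ := nonempty_DX pX δX hδX T hu
  obtain ⟨D'⟩ := nonempty_DX pX δX hδX T' hu
  rw [pushCH_cl, K.κ_eq_push hδX hu hpos D' v hv, K.κ_eq_push hδX hu hpos D _ (Bivar.cycMap_mem_Zk _ _ _ _ hv),
    pushCH_comm D'.h (HH pX h w) (hQ h w D D') D.h (hQ_h h w D D').symm D'.setup (setup_P pX δX hδX T')
      (setup_P pX δX hδX T) D.setup D'.compat (compat_HH pX δX h w) (compat_hQ h w D D') D.compat]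
  congr 1
  rw [pushCH_cl]
  refine Bivar.cl_congr (DFunLike.coe_injective ?_) _ _
  exact map_pullFun (sqQ h w D D').flip D.setup.2.2 D'.setup.2.2 (compat_h h w) (compat_hQ h w D D') D.shift D'.shift
    v (DXpull D' v) rfl

include hpos in
/-- Exterior products commute with flat pullback. -/
theorem Kun.κ_pull [Flat h] (r : ℕ) (hr : Cyc.HasRelDim h r) {m m' : ℤ} (e : m + r = m')
    (e' : m - a + r = m' - a) (hs : IsShift h T'.δ T.δ r) (y : ChowOps.CH T.Y T.δ (m - a)) :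
    pullCH (HH pX h w) (shift_HH pX δX hδX h w r hr) (setup_P pX δX hδX T') (setup_P pX δX hδX T) e
        (K.κ T a m (ChowOps.cl u hu) y) =
      K.κ T' a m' (ChowOps.cl u hu) (pullCH h hs T'.setup T.setup e' y) := by
  obtain ⟨v, hv, rfl⟩ := Bivar.exists_rep y
  obtain ⟨D⟩ := nonempty_DX pX δX hδX T hu
  obtain ⟨D'⟩ := nonempty_DX pX δX hδX T' hu
  haveI := lft_h h w
  have hv' : pullHom hs T'.setup.2.2 v ∈ Cyc.Zk T'.Y T'.δ (m' - a) :=
    e' ▸ Bivar.pullFun_mem_Zk h T'.δ T.δ r (m - a) hv _ rfl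
  have hm' : m' - a + (a : ℤ) = m' := sub_add_cancel _ _
  rw [K.κ_eq_push hδX hu hpos D v hv, pullCH_cl h hs T'.setup T.setup e' v hv (pullHom hs T'.setup.2.2 v) rfl hv',
    K.κ_eq_push hδX hu hpos D' _ hv',
    pullCH_pushCH (sqD h w D D') D.setup (setup_P pX δX hδX T') (setup_P pX δX hδX T) D'.setup D.compat D'.compat
      (shift_HH pX δX hδX h w r hr) (shift_hQ h w D D' r hr) e]
  congr 1
  refine pullCH_cl _ _ _ _ _ _ _ _ ?_ _
  rw [coe_DXpull, coe_DXpull]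
  show Cyc.pullFun D'.pr₁ D'.δ' T'.δ (a : ℤ) (Cyc.pullFun h T'.δ T.δ (r : ℤ) ⇑v) = _
  rw [← pullFun_comp hs D'.shift T'.setup.2.2 D'.setup.2.2 ⇑v,
    ← pullFun_comp D.shift (shift_hQ h w D D' r hr) D.setup.2.2 D'.setup.2.2 ⇑v, hQ_pr₁, add_comm (r : ℤ)]

/-- A Gysin map is the operation of the Gysin class on the trivial square. -/
theorem gysinOp_self {S D : Scheme.{u}} {δS : S → ℤ} {δD : D → ℤ} (hS : Cyc.IsSetup S δS) (hD : Cyc.IsSetup D δD)
    {i : D ⟶ S} [IsClosedImmersion i] (hd : Cyc.DeltaCompat i δD δS) {L : S.Modules} (hL : PicF.IsInvertible L)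
    {σ : L.presheaf.obj (Opposite.op ⊤)} (hσ : Cyc.IsZeroSchemeOf i L σ) {wt : (ξ : S) → Cyc.secFibre L ξ}
    (hwt : ∀ ξ, wt ξ ≠ 0) (j : ℤ) (x : ChowOps.CH S δS j) :
    gysinOp hS hd hL hσ (⟨S, D, 𝟙 S, i, 𝟙 D, IsPullback.of_vert_isIso ⟨by simp⟩, inferInstance, δS, δD,
        Bivar.deltaCompat_id δS, Bivar.deltaCompat_id δD⟩ : Bivar.Sq i δD δS) j x =
      gysinCH hS i hd hL σ hσ hwt j x := by
  haveI := hS.1
  haveI := hD.1
  obtain ⟨α, hα, rfl⟩ := Bivar.exists_rep x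
  have sq : IsPullback i (𝟙 D) (𝟙 S) i := IsPullback.of_vert_isIso ⟨by simp⟩
  have hL₁ := AmpleLib.isInvertible_pullback (𝟙 S) hL
  let γ := restrictCycle i (c1Cycle hS.2.2 hL₁ α fun ξ => pullFib (𝟙 S) L ξ (Cyc.gysinChoice L σ wt ((𝟙 S) ξ)))
  have hγ : γ ∈ Cyc.Zk D δD (j - 1) := mem_Zk_gysin i hd hα fun _ => rfl
  exact (gysinCH_pullFib (w := wt) sq hS hS.1 hL hσ hwt hd hL₁ (Iso.refl _) _
      (isZeroSchemeOf_of_isPullback (𝟙 S) hL hσ sq) (secs_ne_zero hL₁) α hα γ (fun _ => rfl) hγ).trans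
    (gysinCH_pullFib (w := wt) sq hS hS.1 hL hσ hwt hd hL ((Scheme.Modules.pullbackId S).app L) σ hσ hwt α hα γ
      (fun _ => rfl) hγ).symm

section Gysin

variable [IsClosedImmersion h] {L : T.Y.Modules} (hL : PicF.IsInvertible L) {σ : L.presheaf.obj (Opposite.op ⊤)}
  (hσ : Cyc.IsZeroSchemeOf h L σ)

/-- The square of a test scheme over itself. -/
abbrev sq₀ : Bivar.Sq h T'.δ T.δ :=
  ⟨T.Y, T'.Y, 𝟙 T.Y, h, 𝟙 T'.Y, IsPullback.of_vert_isIso ⟨by simp⟩, inferInstance, T.δ, T'.δ,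
    Bivar.deltaCompat_id T.δ, Bivar.deltaCompat_id T'.δ⟩

variable (pX δX) in
/-- The square of the products. -/
abbrev sqPr : Bivar.Sq h T'.δ T.δ :=
  ⟨PP pX T, PP pX T', q₂ pX T, HH pX h w, q₂ pX T', sqH pX h w, inferInstance, dP pX δX T, dP pX δX T',
    compat_q₂ pX δX hδX T, compat_q₂ pX δX hδX T'⟩

variable (pX δX) in
/-- The Gysin class of the zero scheme, as a bivariant class. -/
abbrev gys : Bivar.Cl 1 h T'.δ T.δ := gysinClass T.setup T'.setup (compat_h h w) hL hσ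

include hpos in
/-- Exterior products commute with Gysin maps. -/
theorem Kun.κ_gysin {m : ℤ} (e : m - a - 1 = m - 1 - a) (y : ChowOps.CH T.Y T.δ (m - a)) :
    (gys h w hL hσ).op (sqPr pX δX hδX h w) m (K.κ T a m (ChowOps.cl u hu) y) =
      K.κ T' a (m - 1) (ChowOps.cl u hu)
        (Bivar.chCast T'.Y T'.δ e ((gys h w hL hσ).op (sq₀ h) (m - a) y)) := by
  obtain ⟨v, hv, rfl⟩ := Bivar.exists_rep y
  obtain ⟨D⟩ := nonempty_DX pX δX hδX T hu
  obtain ⟨D'⟩ := nonempty_DX pX δX hδX T' hu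
  haveI := lft_h h w
  let sQ : Bivar.Sq h T'.δ T.δ :=
    ⟨D.P', D'.P', D.pr₁, hQ h w D D', D'.pr₁, sqQ h w D D', D.lft, D.δ', D'.δ', D.compat₁, D'.compat₁⟩
  obtain ⟨γ, hγ, eγ⟩ := Bivar.exists_rep ((gys h w hL hσ).op (sq₀ h) (m - a) (ChowOps.cl v hv))
  have hγ' : γ ∈ Cyc.Zk T'.Y T'.δ (m - 1 - a) := e ▸ hγ
  have hv₁ : DXpull D v ∈ Cyc.Zk D.P' D.δ' (m - a + a) := mem_DXpull D hv rfl
  have hγ₁ : DXpull D' γ ∈ Cyc.Zk D'.P' D'.δ' (m - a + a - 1) :=
    mem_DXpull D' hγ' (by ring)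
  have h₁ := op_pull T'.setup T.setup (gys h w hL hσ) (sq₀ h) sQ D.pr₁ D'.pr₁ a D.relDim D'.relDim
    (Category.comp_id _) (hQ_pr₁ h w D D').symm (Category.comp_id _) v hv γ hγ eγ.symm (DXpull D v) rfl hv₁
    (DXpull D' γ) rfl hγ₁
  have key : ∀ {l : ℤ} (_ : m - a + (a : ℤ) = l) (h₂ : DXpull D v ∈ Cyc.Zk D.P' D.δ' l)
      (h₃ : DXpull D' γ ∈ Cyc.Zk D'.P' D'.δ' (l - 1)),
      (gys h w hL hσ).op sQ l (ChowOps.cl (DXpull D v) h₂) = ChowOps.cl (DXpull D' γ) h₃ := by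
    rintro l rfl h₂ h₃
    exact h₁
  rw [← eγ, Bivar.chCast_cl, K.κ_eq_push hδX hu hpos D v hv, K.κ_eq_push hδX hu hpos D' γ hγ']
  refine (op_pushCH T'.setup T.setup (gys h w hL hσ) (sqPr pX δX hδX h w) sQ D.h D'.h D.w (hQ_h h w D D').symm D'.w
    D.compat D'.compat m _).trans ?_
  rw [key (sub_add_cancel _ _) _ (mem_DXpull D' hγ' (by ring))]

end Gysin

end Groth.Agent.KronLib
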