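import Mathlib
import Groth.Prelude.Def_W4c2quivmodsheafKron

/-! Elementary facts on semistable Kronecker modules. -/

set_option autoImplicit false

open Module Submodule

namespace Groth.Agent.KronLib

universe u v w

variable {K : Type u} [Field K] {V : Type v} {W : Type w} [AddCommGroup V] [Module K V] [AddCommGroup W] [Module K W]
  {n : ℕ} (f : Fin n → (V →ₗ[K] W))

/-- The sum map `V^n → W`. -/
def sumMap : (Fin n → V) →ₗ[K] W := LinearMap.lsum K (fun _ => V) K f

theorem sumMap_apply (v : Fin n → V) : sumMap f v = ∑ j, f j (v j) := by simp [sumMap]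

theorem sumMap_fun : (fun v : Fin n → V => ∑ j, f j (v j)) = sumMap f := funext fun v => (sumMap_apply f v).symm

theorem sumMap_single (j : Fin n) (x : V) : sumMap f (Pi.single j x) = f j x := by
  rw [sumMap_apply, Finset.sum_eq_single j (fun i _ hi => by rw [Pi.single_eq_of_ne hi, map_zero]) (by simp), Pi.single_eq_same]

theorem isSubrep_top_range : KronMod.IsSubrep f ⊤ (LinearMap.range (sumMap f)) := by
  rintro j _ ⟨x, -, rfl⟩
  exact ⟨Pi.single j x, sumMap_single f j x⟩

theorem isSubrep_ker_bot : KronMod.IsSubrep f (LinearMap.ker (LinearMap.pi f)) ⊥ := by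
  rintro j _ ⟨x, hx, rfl⟩
  exact (Submodule.mem_bot K).2 (congr_fun (LinearMap.mem_ker.1 hx) j)

variable [FiniteDimensional K V] [FiniteDimensional K W]

theorem isStable_isSemistable (h : KronMod.IsStable f) : KronMod.IsSemistable f :=
  ⟨h.1, fun V' W' hs h0 h1 => (h.2 V' W' hs h0 h1).le⟩

theorem range_sumMap_eq_top (h : KronMod.IsSemistable f) (hV : 0 < finrank K V) : LinearMap.range (sumMap f) = ⊤ := by
  by_contra hne
  have h1 := h.2 _ _ (isSubrep_top_range f)
    (fun h' => hV.ne' (by rw [← finrank_top K V, h'.1, finrank_bot])) (fun h' => hne h'.2)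
  rw [finrank_top, mul_comm] at h1
  exact absurd (Nat.le_of_mul_le_mul_left h1 hV) (not_le.2 (Submodule.finrank_lt hne))

theorem ker_pi_eq_bot (h : KronMod.IsSemistable f) (hW : 0 < finrank K W) : LinearMap.ker (LinearMap.pi f) = ⊥ := by
  by_contra hne
  have h1 := h.2 _ _ (isSubrep_ker_bot f) (fun h' => hne h'.1)
    (fun h' => hW.ne' (by rw [← finrank_top K W, ← h'.2, finrank_bot]))
  rw [finrank_bot, mul_zero, Nat.le_zero, Nat.mul_eq_zero] at h1
  exact h1.elim hW.ne' fun h0 => hne (Submodule.finrank_eq_zero.1 h0)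

theorem not_isSemistable_out_of_range (hV : 0 < finrank K V) (hW : 0 < finrank K W)
    (h : n * finrank K V < finrank K W ∨ n * finrank K W < finrank K V) : ¬ KronMod.IsSemistable f := by
  intro hs
  rcases h with h | h
  · have h1 := LinearMap.finrank_range_le (sumMap f)
    rw [range_sumMap_eq_top f hs hV, finrank_top, finrank_pi_fintype] at h1
    simp at h1
    omega
  · have h1 := LinearMap.finrank_le_finrank_of_injective (LinearMap.ker_eq_bot.1 (ker_pi_eq_bot f hs hW))
    rw [finrank_pi_fintype] at h1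
    simp at h1
    omega

theorem isSemistable_iff_sum (hV : 0 < finrank K V) (hW : finrank K W = n * finrank K V) :
    KronMod.IsSemistable f ↔ Function.Bijective (sumMap f) := by
  have hd : finrank K (Fin n → V) = finrank K W := by rw [finrank_pi_fintype, hW]; simp
  constructor
  · intro h
    have hs := LinearMap.range_eq_top.1 (range_sumMap_eq_top f h hV)
    exact ⟨(LinearMap.injective_iff_surjective_of_finrank_eq_finrank hd).2 hs, hs⟩
  · intro hb
    refine ⟨by omega, fun V' W' hs _ _ => ?_⟩
    let g : (Fin n → V') →ₗ[K] W' := ((sumMap f).comp (LinearMap.pi fun j => V'.subtype.comp (LinearMap.proj j))).codRestrict W'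
      fun x => by
        rw [LinearMap.comp_apply, sumMap_apply]
        exact sum_mem fun j _ => hs j ⟨_, (x j).2, rfl⟩
    have hg : Function.Injective g := fun x y hxy => by
      funext j
      exact Subtype.ext (congr_fun (hb.1 (congrArg Subtype.val hxy)) j)
    have h1 := LinearMap.finrank_le_finrank_of_injective hg
    rw [finrank_pi_fintype] at h1
    simp at h1
    rw [hW, mul_comm n, mul_assoc]
    exact Nat.mul_le_mul_left _ h1

theorem isSemistable_iff_pi (hW : 0 < finrank K W) (hV : finrank K V = n * finrank K W) :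
    KronMod.IsSemistable f ↔ Function.Bijective (LinearMap.pi f) := by
  have hd : finrank K V = finrank K (Fin n → W) := by rw [finrank_pi_fintype, hV]; simp
  constructor
  · intro h
    have hi := LinearMap.ker_eq_bot.1 (ker_pi_eq_bot f h hW)
    exact ⟨hi, (LinearMap.injective_iff_surjective_of_finrank_eq_finrank hd).1 hi⟩
  · intro hb
    refine ⟨by omega, fun V' W' hs _ _ => ?_⟩
    let g : V' →ₗ[K] (Fin n → W') := LinearMap.pi fun j =>
      ((f j).comp V'.subtype).codRestrict W' fun x => hs j ⟨x, x.2, rfl⟩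
    have hg : Function.Injective g := fun x y hxy =>
      Subtype.ext (hb.1 (funext fun j => congrArg Subtype.val (congr_fun hxy j)))
    have h1 := LinearMap.finrank_le_finrank_of_injective hg
    rw [finrank_pi_fintype] at h1
    simp at h1
    rw [hV, mul_comm n, mul_assoc]
    exact Nat.mul_le_mul_left _ h1

theorem areIso_of_sum {f' : Fin n → (V →ₗ[K] W)} (h : Function.Bijective (sumMap f))
    (h' : Function.Bijective (sumMap f')) : KronMod.AreIso f f' := by
  let e := LinearEquiv.ofBijective (sumMap f) h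
  let e' := LinearEquiv.ofBijective (sumMap f') h'
  refine ⟨LinearEquiv.refl K V, e.symm.trans e', fun j => LinearMap.ext fun x => ?_⟩
  show e' (e.symm (f j x)) = f' j x
  rw [← sumMap_single f j x, ← sumMap_single f' j x]
  exact congrArg e' (e.symm_apply_apply _)

theorem areIso_of_pi {f' : Fin n → (V →ₗ[K] W)} (h : Function.Bijective (LinearMap.pi f))
    (h' : Function.Bijective (LinearMap.pi f')) : KronMod.AreIso f f' := by
  let e := LinearEquiv.ofBijective (LinearMap.pi f) h
  let e' := LinearEquiv.ofBijective (LinearMap.pi f') h'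
  refine ⟨e.trans e'.symm, LinearEquiv.refl K W, fun j => LinearMap.ext fun x => ?_⟩
  show f j x = f' j (e'.symm (e x))
  exact (congr_fun (e'.apply_symm_apply (e x)) j).symm

theorem exists_sum_semistable (hV : 0 < finrank K V) (hW : finrank K W = n * finrank K V) :
    ∃ f : Fin n → (V →ₗ[K] W), KronMod.IsSemistable f := by
  let e : (Fin n → V) ≃ₗ[K] W := LinearEquiv.ofFinrankEq _ _ (by rw [finrank_pi_fintype, hW]; simp)
  refine ⟨fun j => e.toLinearMap.comp (LinearMap.single K (fun _ => V) j), ?_⟩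
  rw [isSemistable_iff_sum _ hV hW]
  convert e.bijective using 1
  funext v
  rw [sumMap_apply]
  simp only [LinearMap.comp_apply, LinearEquiv.coe_coe, LinearMap.coe_single, ← map_sum, Finset.univ_sum_single]

theorem exists_pi_semistable (hW : 0 < finrank K W) (hV : finrank K V = n * finrank K W) :
    ∃ f : Fin n → (V →ₗ[K] W), KronMod.IsSemistable f := by
  let e : V ≃ₗ[K] (Fin n → W) := LinearEquiv.ofFinrankEq _ _ (by rw [finrank_pi_fintype, hV]; simp)
  refine ⟨fun j => (LinearMap.proj j).comp e.toLinearMap, ?_⟩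
  rw [isSemistable_iff_pi _ hW hV]
  exact e.bijective

theorem eq_bot_or_eq_top {U : Type*} [AddCommGroup U] [Module K U] [FiniteDimensional K U] (h : finrank K U = 1)
    (P : Submodule K U) : P = ⊥ ∨ P = ⊤ := by
  rcases Nat.eq_zero_or_pos (finrank K P) with h0 | h0
  · exact Or.inl (Submodule.finrank_eq_zero.1 h0)
  · exact Or.inr (Submodule.eq_top_of_finrank_eq (le_antisymm (Submodule.finrank_le P) (by omega)))

theorem isStable_iff_sum (hV : 0 < finrank K V) (hW : finrank K W = n * finrank K V) :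
    KronMod.IsStable f ↔ (KronMod.IsSemistable f ∧ finrank K V = 1) := by
  constructor
  · refine fun h => ⟨isStable_isSemistable f h, ?_⟩
    by_contra hne
    have hb := (isSemistable_iff_sum f hV hW).1 (isStable_isSemistable f h)
    obtain ⟨x, hx⟩ := Module.finrank_pos_iff_exists_ne_zero.1 hV
    let g : (Fin n → K) →ₗ[K] W := (sumMap f).comp (LinearMap.pi fun j => (LinearMap.toSpanSingleton K V x).comp (LinearMap.proj j))
    have hg : Function.Injective g := fun a b hab => by
      funext j
      exact (smul_left_injective K hx) (congr_fun (hb.1 hab) j)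
    have hs : KronMod.IsSubrep f (K ∙ x) (LinearMap.range g) := by
      rintro j _ ⟨y, hy, rfl⟩
      obtain ⟨c, rfl⟩ := Submodule.mem_span_singleton.1 hy
      refine ⟨Pi.single j c, ?_⟩
      show sumMap f _ = _
      rw [show (LinearMap.pi fun i => (LinearMap.toSpanSingleton K V x).comp (LinearMap.proj i)) (Pi.single j c) =
        Pi.single j (c • x) from funext fun i => by rcases eq_or_ne i j with rfl | hij <;> simp [*]]
      exact sumMap_single f j _
    have h1 := h.2 _ _ hs (fun h' => hx (Submodule.span_singleton_eq_bot.1 h'.1))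
      (fun h' => hne (by rw [← finrank_top K V, ← h'.1, finrank_span_singleton hx]))
    rw [finrank_span_singleton hx, LinearMap.finrank_range_of_inj hg, hW] at h1
    simp [mul_comm] at h1
  · rintro ⟨h, h1⟩
    refine ⟨h.1, fun V' W' hs h0 ht => ?_⟩
    rcases eq_bot_or_eq_top h1 V' with rfl | rfl
    · rw [finrank_bot, mul_zero]
      exact Nat.mul_pos hV (Nat.pos_of_ne_zero fun h' => h0 ⟨rfl, Submodule.finrank_eq_zero.1 h'⟩)
    · refine absurd ⟨rfl, top_le_iff.1 ?_⟩ ht
      rw [← range_sumMap_eq_top f h hV]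
      rintro _ ⟨v, rfl⟩
      rw [sumMap_apply]
      exact sum_mem fun j _ => hs j ⟨v j, Submodule.mem_top, rfl⟩

theorem isStable_iff_pi (hW : 0 < finrank K W) (hV : finrank K V = n * finrank K W) :
    KronMod.IsStable f ↔ (KronMod.IsSemistable f ∧ finrank K W = 1) := by
  constructor
  · refine fun h => ⟨isStable_isSemistable f h, ?_⟩
    by_contra hne
    have hb := (isSemistable_iff_pi f hW hV).1 (isStable_isSemistable f h)
    obtain ⟨x, hx⟩ := Module.finrank_pos_iff_exists_ne_zero.1 hW
    let g : (Fin n → K) →ₗ[K] V := (LinearEquiv.ofBijective (LinearMap.pi f) hb).symm.toLinearMap.comp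
      (LinearMap.pi fun j => (LinearMap.toSpanSingleton K W x).comp (LinearMap.proj j))
    have hg : Function.Injective g := fun a b hab => by
      funext j
      exact (smul_left_injective K hx) (congr_fun ((LinearEquiv.ofBijective (LinearMap.pi f) hb).symm.injective hab) j)
    have hs : KronMod.IsSubrep f (LinearMap.range g) (K ∙ x) := by
      rintro j _ ⟨_, ⟨a, rfl⟩, rfl⟩
      refine Submodule.mem_span_singleton.2 ⟨a j, ?_⟩
      exact (congr_fun ((LinearEquiv.ofBijective (LinearMap.pi f) hb).apply_symm_apply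
        ((LinearMap.pi fun j => (LinearMap.toSpanSingleton K W x).comp (LinearMap.proj j)) a)) j).symm
    have h1 := h.2 _ _ hs (fun h' => hx (Submodule.span_singleton_eq_bot.1 h'.2))
      (fun h' => hne (by rw [← finrank_top K W, ← h'.2, finrank_span_singleton hx]))
    rw [finrank_span_singleton hx, LinearMap.finrank_range_of_inj hg, hV] at h1
    simp [mul_comm] at h1
  · rintro ⟨h, h1⟩
    refine ⟨h.1, fun V' W' hs h0 ht => ?_⟩
    rcases eq_bot_or_eq_top h1 W' with rfl | rfl
    · refine absurd ⟨le_bot_iff.1 ?_, rfl⟩ h0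
      rw [← ker_pi_eq_bot f h hW]
      exact fun x hx => LinearMap.mem_ker.2 (funext fun j => (Submodule.mem_bot K).1 (hs j ⟨x, hx, rfl⟩))
    · rw [finrank_top, h1, one_mul, mul_one]
      exact Submodule.finrank_lt fun h' => ht ⟨h', rfl⟩

theorem dim_one (hV : finrank K V = 1) (hW : finrank K W = 1) :
    (KronMod.IsSemistable f ↔ f ≠ 0) ∧ (KronMod.IsStable f ↔ f ≠ 0) := by
  have h1 : KronMod.IsSemistable f → f ≠ 0 := by
    intro h hf
    have := ker_pi_eq_bot f h (by omega)
    rw [hf, show LinearMap.pi (0 : Fin n → (V →ₗ[K] W)) = 0 from LinearMap.ext fun _ => rfl, LinearMap.ker_zero] at this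
    have h2 := congrArg (fun P : Submodule K V => finrank K P) this
    simp [hV] at h2
  have h2 : f ≠ 0 → KronMod.IsStable f := by
    intro hf
    refine ⟨by omega, fun V' W' hs h0 ht => ?_⟩
    rcases eq_bot_or_eq_top hV V' with rfl | rfl <;> rcases eq_bot_or_eq_top hW W' with rfl | rfl
    · exact absurd ⟨rfl, rfl⟩ h0
    · simp [hV, hW]
    · exact absurd (funext fun j => LinearMap.ext fun x => (Submodule.mem_bot K).1 (hs j ⟨x, Submodule.mem_top, rfl⟩)) hf
    · exact absurd ⟨rfl, rfl⟩ ht
  exact ⟨⟨h1, fun h => isStable_isSemistable f (h2 h)⟩, ⟨fun h => h1 (isStable_isSemistable f h), h2⟩⟩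

theorem isSemistable_of_combination (hVW : finrank K V = finrank K W) (hk : 1 ≤ finrank K V) (z : Fin n → K)
    (hz : Function.Bijective ((∑ j, z j • f j : V →ₗ[K] W) : V → W)) : KronMod.IsSemistable f := by
  refine ⟨by omega, fun V' W' hs _ _ => ?_⟩
  let g : V' →ₗ[K] W' := ((∑ j, z j • f j : V →ₗ[K] W).comp V'.subtype).codRestrict W' fun x => by
    rw [LinearMap.comp_apply, LinearMap.sum_apply]
    exact sum_mem fun j _ => W'.smul_mem _ (hs j ⟨x, x.2, rfl⟩)
  have hg : Function.Injective g := fun x y hxy => Subtype.ext (hz.1 (congrArg Subtype.val hxy))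
  rw [hVW]
  exact Nat.mul_le_mul_left _ (LinearMap.finrank_le_finrank_of_injective hg)

theorem not_isStable_two [IsAlgClosed K] (f : Fin 2 → (V →ₗ[K] W)) {k : ℕ} (hk : 2 ≤ k) (hV : finrank K V = k)
    (hW : finrank K W = k) : ¬ KronMod.IsStable f := by
  intro h
  suffices H : ∃ (x : V) (y : W), x ≠ 0 ∧ ∀ j, f j x ∈ K ∙ y by
    obtain ⟨x, y, hx, hy⟩ := H
    have hs : KronMod.IsSubrep f (K ∙ x) (K ∙ y) := by
      rintro j _ ⟨z, hz, rfl⟩
      obtain ⟨c, rfl⟩ := Submodule.mem_span_singleton.1 hz
      rw [map_smul]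
      exact Submodule.smul_mem _ _ (hy j)
    have h1 := h.2 _ _ hs (fun h' => hx (Submodule.span_singleton_eq_bot.1 h'.1))
      (fun h' => absurd (by rw [← hV, ← finrank_top K V, ← h'.1, finrank_span_singleton hx]) (by omega : ¬ k = 1))
    rw [finrank_span_singleton hx, hV, hW, mul_one] at h1
    have h2 : finrank K (K ∙ y) ≤ 1 := (finrank_span_le_card ({y} : Set W)).trans (by simp)
    have h3 := Nat.mul_le_mul_left k h2
    omega
  by_cases hb : Function.Injective (f 0)
  · have hs : Function.Surjective (f 0) := (LinearMap.injective_iff_surjective_of_finrank_eq_finrank (by rw [hV, hW])).1 hb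
    haveI : Nontrivial V := Module.nontrivial_of_finrank_pos (R := K) (by omega)
    let e := LinearEquiv.ofBijective (f 0) ⟨hb, hs⟩
    obtain ⟨c, hc⟩ := Module.End.exists_eigenvalue (e.symm.toLinearMap.comp (f 1) : Module.End K V)
    obtain ⟨x, hx⟩ := hc.exists_hasEigenvector
    refine ⟨x, f 0 x, hx.2, fun j => ?_⟩
    fin_cases j
    · exact Submodule.mem_span_singleton_self _
    · refine Submodule.mem_span_singleton.2 ⟨c, ?_⟩
      have h1 : e.symm (f 1 x) = c • x := hx.apply_eq_smul
      show c • f 0 x = f 1 x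
      rw [← map_smul, ← h1]
      exact e.apply_symm_apply _
  · obtain ⟨x, hx, hx0⟩ := Submodule.exists_mem_ne_zero_of_ne_bot (mt LinearMap.ker_eq_bot.1 hb)
    refine ⟨x, f 1 x, hx0, fun j => ?_⟩
    fin_cases j
    · show f 0 x ∈ _
      rw [LinearMap.mem_ker.1 hx]
      exact zero_mem _
    · exact Submodule.mem_span_singleton_self _

theorem exists_combination_two (hV : finrank K V = 2) (hW : finrank K W = 2) (hf : KronMod.IsSemistable f) :
    ∃ z : Fin n → K, Function.Bijective ((∑ j, z j • f j : V →ₗ[K] W) : V → W) := by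
  by_contra hno
  push Not at hno
  have hsing : ∀ (i : Fin n) (k : Fin n) (b : K) (u : V), f k u = 0 → f i u ≠ 0 →
      ∀ v, f i v + b • f k v ∈ K ∙ f i u := by
    intro i k b u hk hi v
    let φ : V →ₗ[K] W := f i + b • f k
    have hφ : ¬ Function.Bijective φ := by
      have := hno (Pi.single i 1 + Pi.single k b)
      have hsum : (∑ j, (Pi.single i 1 + Pi.single k b : Fin n → K) j • f j) = φ := by
        simp [φ, add_smul, Finset.sum_add_distrib, Pi.single_apply, ite_smul]
      rwa [hsum] at this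
    have hr : finrank K (LinearMap.range φ) ≤ 1 := by
      by_contra hlt
      have hs : Function.Surjective φ := LinearMap.range_eq_top.1
        (Submodule.eq_top_of_finrank_eq (le_antisymm (Submodule.finrank_le _) (by omega)))
      exact hφ ⟨(LinearMap.injective_iff_surjective_of_finrank_eq_finrank (by rw [hV, hW])).2 hs, hs⟩
    have hle : (K ∙ f i u) ≤ LinearMap.range φ :=
      (Submodule.span_singleton_le_iff_mem _ _).2 ⟨u, by simp [φ, hk]⟩
    rw [Submodule.eq_of_le_of_finrank_le hle (by rwa [finrank_span_singleton hi])]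
    exact ⟨v, rfl⟩
  obtain ⟨j, hj⟩ : ∃ j, f j ≠ 0 := by
    by_contra h0
    push Not at h0
    have := ker_pi_eq_bot f hf (by omega)
    rw [show LinearMap.pi f = 0 from LinearMap.ext fun x => funext fun j => by simp [h0 j], LinearMap.ker_zero] at this
    have h2 := congrArg (fun P : Submodule K V => finrank K P) this
    simp [hV] at h2
  obtain ⟨u, hu, hu0⟩ : ∃ u, f j u = 0 ∧ u ≠ 0 := by
    have := hno (Pi.single j 1)
    rw [show (∑ k, (Pi.single j 1 : Fin n → K) k • f k) = f j by simp [Pi.single_apply, ite_smul]] at this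
    by_contra h0
    push Not at h0
    have hi : Function.Injective (f j) := (injective_iff_map_eq_zero _).2 h0
    exact this ⟨hi, (LinearMap.injective_iff_surjective_of_finrank_eq_finrank (by rw [hV, hW])).1 hi⟩
  obtain ⟨i₀, hi₀⟩ : ∃ i, f i u ≠ 0 := by
    by_contra h0
    push Not at h0
    exact hu0 ((Submodule.mem_bot K).1 (ker_pi_eq_bot f hf (by omega) ▸ LinearMap.mem_ker.2 (funext fun k => h0 k)))
  have hrange : ∀ i, f i u ≠ 0 → ∀ k, f k u = 0 → ∀ v, f k v ∈ K ∙ f i u := by
    intro i hi k hk v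
    have h := sub_mem (hsing i k 1 u hk hi v) (hsing i k 0 u hk hi v)
    simpa using h
  obtain ⟨v₀, hv₀⟩ : ∃ v, f j v ≠ 0 := by
    by_contra h0
    push Not at h0
    exact hj (LinearMap.ext h0)
  have hline : ∀ i, f i u ≠ 0 → (K ∙ f i u) = K ∙ f j v₀ := fun i hi =>
    (Submodule.eq_of_le_of_finrank_le ((Submodule.span_singleton_le_iff_mem _ _).2 (hrange i hi j hu v₀))
      (by rw [finrank_span_singleton hv₀, finrank_span_singleton hi])).symm
  have hall : LinearMap.range (sumMap f) ≤ K ∙ f j v₀ := by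
    rintro _ ⟨v, rfl⟩
    rw [sumMap_apply]
    refine sum_mem fun k _ => ?_
    by_cases hk : f k u = 0
    · exact hline i₀ hi₀ ▸ hrange i₀ hi₀ k hk (v k)
    · have := hsing k j 0 u hu hk (v k)
      rw [zero_smul, add_zero, hline k hk] at this
      exact this
  have h2 := Submodule.finrank_mono hall
  rw [range_sumMap_eq_top f hf (by omega), finrank_top, hW, finrank_span_singleton hv₀] at h2
  omega

theorem dual_iff :
    (KronMod.IsSemistable f ↔ KronMod.IsSemistable fun j => (f j).dualMap) ∧
      (KronMod.IsStable f ↔ KronMod.IsStable fun j => (f j).dualMap) := by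
  have hdV := Subspace.dual_finrank_eq (K := K) (V := V)
  have hdW := Subspace.dual_finrank_eq (K := K) (V := W)
  have fwd : ∀ (V' : Submodule K V) (W' : Submodule K W), KronMod.IsSubrep f V' W' →
      KronMod.IsSubrep (fun j => (f j).dualMap) W'.dualAnnihilator V'.dualAnnihilator := by
    rintro V' W' hs j _ ⟨φ, hφ, rfl⟩
    rw [Submodule.mem_dualAnnihilator]
    intro v hv
    exact (Submodule.mem_dualAnnihilator φ).1 hφ _ (hs j ⟨v, hv, rfl⟩)
  have bwd : ∀ (V' : Submodule K V) (W' : Submodule K W),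
      KronMod.IsSubrep (fun j => (f j).dualMap) W'.dualAnnihilator V'.dualAnnihilator → KronMod.IsSubrep f V' W' := by
    rintro V' W' hs j _ ⟨v, hv, rfl⟩
    rw [← Subspace.dualAnnihilator_dualCoannihilator_eq (W := W'), Submodule.mem_dualCoannihilator]
    intro φ hφ
    exact (Submodule.mem_dualAnnihilator _).1 (hs j ⟨φ, hφ, rfl⟩) v hv
  have surjV : ∀ P : Submodule K (Module.Dual K V), P.dualCoannihilator.dualAnnihilator = P := fun P =>
    Subspace.dualCoannihilator_dualAnnihilator_eq
  have surjW : ∀ P : Submodule K (Module.Dual K W), P.dualCoannihilator.dualAnnihilator = P := fun P =>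
    Subspace.dualCoannihilator_dualAnnihilator_eq
  have hbotV : ∀ V' : Submodule K V, V'.dualAnnihilator = ⊥ ↔ V' = ⊤ := fun _ => Submodule.dualAnnihilator_eq_bot_iff
  have hbotW : ∀ W' : Submodule K W, W'.dualAnnihilator = ⊥ ↔ W' = ⊤ := fun _ => Submodule.dualAnnihilator_eq_bot_iff
  have htopV : ∀ V' : Submodule K V, V'.dualAnnihilator = ⊤ ↔ V' = ⊥ := fun _ => Submodule.dualAnnihilator_eq_top_iff
  have htopW : ∀ W' : Submodule K W, W'.dualAnnihilator = ⊤ ↔ W' = ⊥ := fun _ => Submodule.dualAnnihilator_eq_top_iff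
  have num : ∀ (V' : Submodule K V) (W' : Submodule K W),
      (finrank K (Module.Dual K V) * finrank K W'.dualAnnihilator ≤ finrank K (Module.Dual K W) * finrank K V'.dualAnnihilator ↔
        finrank K W * finrank K V' ≤ finrank K V * finrank K W') ∧
      (finrank K (Module.Dual K V) * finrank K W'.dualAnnihilator < finrank K (Module.Dual K W) * finrank K V'.dualAnnihilator ↔
        finrank K W * finrank K V' < finrank K V * finrank K W') := by
    intro V' W'
    have a1 := Subspace.finrank_add_finrank_dualAnnihilator_eq V'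
    have a2 := Subspace.finrank_add_finrank_dualAnnihilator_eq W'
    rw [hdV, hdW]
    generalize finrank K V'.dualAnnihilator = p at a1 ⊢
    generalize finrank K W'.dualAnnihilator = q at a2 ⊢
    rw [← a1, ← a2]
    constructor <;> constructor <;> intro <;> nlinarith
  have pos : 0 < finrank K V + finrank K W ↔ 0 < finrank K (Module.Dual K W) + finrank K (Module.Dual K V) := by
    rw [hdV, hdW, add_comm]
  refine ⟨⟨fun h => ⟨pos.1 h.1, fun P Q hs h0 ht => ?_⟩, fun h => ⟨pos.2 h.1, fun V' W' hs h0 ht => ?_⟩⟩,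
    ⟨fun h => ⟨pos.1 h.1, fun P Q hs h0 ht => ?_⟩, fun h => ⟨pos.2 h.1, fun V' W' hs h0 ht => ?_⟩⟩⟩
  · obtain ⟨W', rfl⟩ : ∃ W' : Submodule K W, W'.dualAnnihilator = P := ⟨_, surjW P⟩
    obtain ⟨V', rfl⟩ : ∃ V' : Submodule K V, V'.dualAnnihilator = Q := ⟨_, surjV Q⟩
    rw [hbotW, hbotV] at h0
    rw [htopW, htopV] at ht
    exact (num V' W').1.2 (h.2 V' W' (bwd V' W' hs) (fun h' => ht ⟨h'.2, h'.1⟩) (fun h' => h0 ⟨h'.2, h'.1⟩))
  · exact (num V' W').1.1 (h.2 _ _ (fwd V' W' hs)
      (fun h' => ht ⟨(hbotV _).1 h'.2, (hbotW _).1 h'.1⟩) (fun h' => h0 ⟨(htopV _).1 h'.2, (htopW _).1 h'.1⟩))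
  · obtain ⟨W', rfl⟩ : ∃ W' : Submodule K W, W'.dualAnnihilator = P := ⟨_, surjW P⟩
    obtain ⟨V', rfl⟩ : ∃ V' : Submodule K V, V'.dualAnnihilator = Q := ⟨_, surjV Q⟩
    rw [hbotW, hbotV] at h0
    rw [htopW, htopV] at ht
    exact (num V' W').2.2 (h.2 V' W' (bwd V' W' hs) (fun h' => ht ⟨h'.2, h'.1⟩) (fun h' => h0 ⟨h'.2, h'.1⟩))
  · exact (num V' W').2.1 (h.2 _ _ (fwd V' W' hs)
      (fun h' => ht ⟨(hbotV _).1 h'.2, (hbotW _).1 h'.1⟩) (fun h' => h0 ⟨(htopV _).1 h'.2, (htopW _).1 h'.1⟩))

end Groth.Agent.KronLib
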